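import Groth.Agent.SepTangent.Chart
import Groth.Agent.InvPow.Projective
import Groth.Agent.S10867

set_option autoImplicit false
set_option linter.style.haveILetI false

/-!
# Closed immersions into projective space: separating points and tangent vectors
-/

namespace Groth.Agent.SepTangent

universe u

open CategoryTheory CategoryTheory.Limits AlgebraicGeometry Opposite TopologicalSpace
open Groth.Agent.InvBasic Groth.Agent.ProjUniv

variable {n : ℕ} {k : Type u} [Field k] {X : Scheme.{u}}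

local notation "Pn" => Proj (CohB1.polyGrading n k)

section
variable (f : X ⟶ Proj (CohB1.polyGrading n k)) {pX : X ⟶ Spec (CommRingCat.of k)}

/-- The section `∑ c j • f^*(T j)`. -/
noncomputable def sumSec (pX : X ⟶ Spec (CommRingCat.of k)) (c : Fin (n + 1) → k) : ProjUP.Γm (P1 f) :=
  ∑ j, ProjUP.toGlobal pX (c j) • pco f j

theorem gres_sumSec (hf : f ≫ str n k = pX) (i : Fin (n + 1)) (c : Fin (n + 1) → k) :
    gres (P1 f) (sumSec f pX c) (f ⁻¹ᵁ D n k i) =
      f.app (D n k i) (lin i c) • gres (P1 f) (pco f i) (f ⁻¹ᵁ D n k i) := by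
  have hσ : ∀ a : k, sigma pX (f ⁻¹ᵁ D n k i) a = f.app (D n k i) (const i a) := by
    intro a
    rw [← chartMap_chartBase f hf (i := i) le_rfl, const_eq]
    simp [chartMap, Scheme.Hom.app_eq_appLE]
  have hc : ∀ j, chartMap f (le_refl (f ⁻¹ᵁ D n k i)) (ProjPoint.coord i j) = f.app (D n k i) (coFun n k i j) :=
    fun j => by simp [chartMap, Scheme.Hom.app_eq_appLE]
  have hsum : gres (P1 f) (sumSec f pX c) (f ⁻¹ᵁ D n k i) =
      ∑ j, gres (P1 f) (ProjUP.toGlobal pX (c j) • pco f j) (f ⁻¹ᵁ D n k i) :=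
    map_sum ((P1 f).presheaf.map (homOfLE (le_top : f ⁻¹ᵁ D n k i ≤ ⊤)).op).hom _ _
  rw [hsum, lin, map_sum, Finset.sum_smul]
  refine Finset.sum_congr rfl fun j _ => ?_
  rw [map_mul, ← hσ, ← hc, mul_smul, ← gres_pco f le_rfl j]
  exact res_smul (P1 f) le_top _ _

theorem germ_sumSec (hf : f ≫ str n k = pX) (i : Fin (n + 1)) {x : X} (hx : x ∈ f ⁻¹ᵁ D n k i)
    (c : Fin (n + 1) → k) :
    (P1 f).presheaf.germ ⊤ x trivial (sumSec f pX c) =
      X.presheaf.germ (f ⁻¹ᵁ D n k i) x hx (f.app (D n k i) (lin i c)) •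
        (P1 f).presheaf.germ ⊤ x trivial (pco f i) :=
  germ_rel (P1 f) hx (gres_sumSec f hf i c)

theorem bijective_smul_pco (i : Fin (n + 1)) {x : X} (hx : x ∈ f ⁻¹ᵁ D n k i) :
    Function.Bijective
      (LinearMap.toSpanSingleton (X.presheaf.stalk x) ↑((P1 f).presheaf.stalk x)
        ((P1 f).presheaf.germ ⊤ x trivial (pco f i))) := by
  have e : (P1 f).presheaf.germ (f ⁻¹ᵁ D n k i) x hx (gres (P1 f) (pco f i) (f ⁻¹ᵁ D n k i)) =
      (P1 f).presheaf.germ ⊤ x trivial (pco f i) :=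
    TopCat.Presheaf.germ_res_apply (P1 f).presheaf _ x hx _
  rw [← e]
  exact (isBasis_pco f (le_refl (f ⁻¹ᵁ D n k i))).stalk_bijective hx

theorem smul_top_eq_map {R M : Type*} [CommRing R] [AddCommGroup M] [Module R M] {v : M}
    (hv : Function.Surjective (LinearMap.toSpanSingleton R M v)) (I : Ideal R) :
    I • (⊤ : Submodule R M) = Submodule.map (LinearMap.toSpanSingleton R M v) I := by
  conv_lhs => rw [← LinearMap.range_eq_top.mpr hv, LinearMap.range_eq_map, ← Submodule.map_smul'',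
    smul_eq_mul, Ideal.mul_top]

theorem smul_mem_smul_top_iff {R M : Type*} [CommRing R] [AddCommGroup M] [Module R M] {v : M}
    (hv : Function.Bijective (LinearMap.toSpanSingleton R M v)) (I : Ideal R) (a : R) :
    a • v ∈ I • (⊤ : Submodule R M) ↔ a ∈ I := by
  rw [smul_top_eq_map hv.2, Submodule.mem_map]
  refine ⟨?_, fun h => ⟨a, h, rfl⟩⟩
  rintro ⟨b, hb, hba⟩
  rwa [← hv.1 (hba : LinearMap.toSpanSingleton R M v b = LinearMap.toSpanSingleton R M v a)]

theorem germ_app_mem_iff {Y : Scheme.{u}} (g : X ⟶ Y) {U : Y.Opens} (a : Γ(Y, U)) {x : X} (hx : x ∈ g ⁻¹ᵁ U) :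
    X.presheaf.germ (g ⁻¹ᵁ U) x hx (g.app U a) ∈ IsLocalRing.maximalIdeal (X.presheaf.stalk x) ↔
      g x ∉ Y.basicOpen a := by
  rw [IsLocalRing.mem_maximalIdeal, mem_nonunits_iff, ← X.mem_basicOpen _ x hx,
    ← Scheme.preimage_basicOpen]
  rfl

/-- A combination of the coordinates vanishes at `x` exactly when the linear form vanishes at the image. -/
theorem sumSec_mem_iff (hf : f ≫ str n k = pX) (i : Fin (n + 1)) {x : X} (hx : x ∈ f ⁻¹ᵁ D n k i)
    (c : Fin (n + 1) → k) :
    (P1 f).presheaf.germ ⊤ x trivial (sumSec f pX c) ∈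
        IsLocalRing.maximalIdeal (X.presheaf.stalk x) • (⊤ : Submodule (X.presheaf.stalk x) _) ↔
      f x ∉ (Pn).basicOpen (lin i c) := by
  rw [germ_sumSec f hf i hx c, smul_mem_smul_top_iff (bijective_smul_pco f i hx), germ_app_mem_iff]

/-- The tangent condition at `x` in terms of the local ring. -/
theorem tangent_iff (hf : f ≫ str n k = pX) (i : Fin (n + 1)) {x : X} (hx : x ∈ f ⁻¹ᵁ D n k i) :
    (IsLocalRing.maximalIdeal (X.presheaf.stalk x) • (⊤ : Submodule (X.presheaf.stalk x) ↑((P1 f).presheaf.stalk x)) ≤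
      Submodule.span (X.presheaf.stalk x)
          {v | ∃ c : Fin (n + 1) → k, v = (P1 f).presheaf.germ ⊤ x trivial (sumSec f pX c) ∧
            v ∈ IsLocalRing.maximalIdeal (X.presheaf.stalk x) • (⊤ : Submodule (X.presheaf.stalk x) _)} ⊔
        IsLocalRing.maximalIdeal (X.presheaf.stalk x) ^ 2 • (⊤ : Submodule (X.presheaf.stalk x) _)) ↔
      IsLocalRing.maximalIdeal (X.presheaf.stalk x) ≤
        Ideal.span {a | ∃ c : Fin (n + 1) → k, f x ∉ (Pn).basicOpen (lin i c) ∧
            a = X.presheaf.germ (f ⁻¹ᵁ D n k i) x hx (f.app (D n k i) (lin i c))} ⊔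
          IsLocalRing.maximalIdeal (X.presheaf.stalk x) ^ 2 := by
  set φ := LinearMap.toSpanSingleton (X.presheaf.stalk x) ↑((P1 f).presheaf.stalk x)
    ((P1 f).presheaf.germ ⊤ x trivial (pco f i)) with hφ
  have hbij : Function.Bijective φ := bijective_smul_pco f i hx
  have hset : {v | ∃ c : Fin (n + 1) → k, v = (P1 f).presheaf.germ ⊤ x trivial (sumSec f pX c) ∧
      v ∈ IsLocalRing.maximalIdeal (X.presheaf.stalk x) • (⊤ : Submodule (X.presheaf.stalk x) _)} =
      φ '' {a | ∃ c : Fin (n + 1) → k, f x ∉ (Pn).basicOpen (lin i c) ∧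
        a = X.presheaf.germ (f ⁻¹ᵁ D n k i) x hx (f.app (D n k i) (lin i c))} := by
    ext v
    constructor
    · rintro ⟨c, rfl, hc⟩
      exact ⟨_, ⟨c, (sumSec_mem_iff f hf i hx c).mp hc, rfl⟩, (germ_sumSec f hf i hx c).symm⟩
    · rintro ⟨_, ⟨c, hc, rfl⟩, rfl⟩
      exact ⟨c, (germ_sumSec f hf i hx c).symm,
        (smul_mem_smul_top_iff hbij _ _).mpr ((germ_app_mem_iff f _ hx).mpr hc)⟩
  rw [hset, smul_top_eq_map hbij.2, smul_top_eq_map hbij.2, Submodule.span_image, ← Submodule.map_sup]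
  exact Submodule.map_le_map_iff_of_injective hbij.1 _ _

variable [IsAlgClosed k] [IsProper pX]

theorem isProper_of_over (hf : f ≫ str n k = pX) : IsProper f := by
  haveI : IsProper (str n k) := InvPow.isProper_toSpec n k
  haveI : IsProper (f ≫ str n k) := hf ▸ inferInstance
  exact IsProper.of_comp f (str n k)

theorem isClosed_image (hf : f ≫ str n k = pX) {x : X} (hx : IsClosed ({x} : Set X)) :
    IsClosed ({f x} : Set (Pn)) := by
  haveI := isProper_of_over f hf
  simpa using f.isClosedMap _ hx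

/-- The criterion, assuming that the span separates points in either order. -/
theorem isClosedImmersion_of_separates (hf : f ≫ str n k = pX)
    (h1 : ∀ P Q : X, IsClosed ({P} : Set X) → IsClosed ({Q} : Set X) → P ≠ Q →
      ∃ c : Fin (n + 1) → k,
        ((P1 f).presheaf.germ ⊤ P trivial (sumSec f pX c) ∈
            IsLocalRing.maximalIdeal (X.presheaf.stalk P) • (⊤ : Submodule (X.presheaf.stalk P) _) ∧
          (P1 f).presheaf.germ ⊤ Q trivial (sumSec f pX c) ∉
            IsLocalRing.maximalIdeal (X.presheaf.stalk Q) • (⊤ : Submodule (X.presheaf.stalk Q) _)) ∨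
        ((P1 f).presheaf.germ ⊤ Q trivial (sumSec f pX c) ∈
            IsLocalRing.maximalIdeal (X.presheaf.stalk Q) • (⊤ : Submodule (X.presheaf.stalk Q) _) ∧
          (P1 f).presheaf.germ ⊤ P trivial (sumSec f pX c) ∉
            IsLocalRing.maximalIdeal (X.presheaf.stalk P) • (⊤ : Submodule (X.presheaf.stalk P) _)))
    (h2 : ∀ P : X, IsClosed ({P} : Set X) →
      IsLocalRing.maximalIdeal (X.presheaf.stalk P) • (⊤ : Submodule (X.presheaf.stalk P) ↑((P1 f).presheaf.stalk P)) ≤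
        Submodule.span (X.presheaf.stalk P)
          {v | ∃ c : Fin (n + 1) → k, v = (P1 f).presheaf.germ ⊤ P trivial (sumSec f pX c) ∧
            v ∈ IsLocalRing.maximalIdeal (X.presheaf.stalk P) • (⊤ : Submodule (X.presheaf.stalk P) _)} ⊔
        IsLocalRing.maximalIdeal (X.presheaf.stalk P) ^ 2 • (⊤ : Submodule (X.presheaf.stalk P) _)) :
    IsClosedImmersion f := by
  haveI : IsProper (str n k) := InvPow.isProper_toSpec n k
  haveI := isProper_of_over f hf
  haveI : LocallyOfFiniteType (f ≫ str n k) := by rw [hf]; infer_instance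
  refine S10867.result k f (str n k) ?_ ?_
  · intro P hP Q hQ he
    by_contra hne
    obtain ⟨i, hi⟩ := exists_mem_D (f P)
    have hiQ : f Q ∈ D n k i := by rw [← show f P = f Q from he]; exact hi
    obtain ⟨c, hc⟩ := h1 P Q hP hQ hne
    have he' : f P = f Q := he
    rw [sumSec_mem_iff f hf i hi, sumSec_mem_iff f hf i (show Q ∈ f ⁻¹ᵁ D n k i from hiQ), he'] at hc
    tauto
  · intro x hx
    obtain ⟨i, hi⟩ := exists_mem_D (f x)
    refine le_antisymm (sup_le ?_ (Ideal.pow_le_self two_ne_zero)) ?_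
    · exact Ideal.map_le_iff_le_comap.mpr fun a ha h => ha (isUnit_of_map_unit (f.stalkMap x).hom a h)
    · refine ((tangent_iff f hf i (show x ∈ f ⁻¹ᵁ D n k i from hi)).mp (h2 x hx)).trans (sup_le_sup_right ?_ _)
      rw [Ideal.span_le]
      rintro _ ⟨c, hc, rfl⟩
      rw [← Scheme.Hom.germ_stalkMap_apply]
      refine Ideal.mem_map_of_mem _ ?_
      rw [IsLocalRing.mem_maximalIdeal, mem_nonunits_iff]
      exact fun h => hc (((Pn).mem_basicOpen _ (f x) hi).mpr h)

/-- A closed immersion separates points (in the given order). -/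
theorem separates_of_isClosedImmersion (hf : f ≫ str n k = pX) [IsClosedImmersion f] (P Q : X)
    (hP : IsClosed ({P} : Set X)) (hQ : IsClosed ({Q} : Set X)) (hne : P ≠ Q) :
    ∃ c : Fin (n + 1) → k,
      (P1 f).presheaf.germ ⊤ P trivial (sumSec f pX c) ∈
          IsLocalRing.maximalIdeal (X.presheaf.stalk P) • (⊤ : Submodule (X.presheaf.stalk P) _) ∧
        (P1 f).presheaf.germ ⊤ Q trivial (sumSec f pX c) ∉
          IsLocalRing.maximalIdeal (X.presheaf.stalk Q) • (⊤ : Submodule (X.presheaf.stalk Q) _) := by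
  haveI : IsProper (str n k) := InvPow.isProper_toSpec n k
  have hy : f P ≠ f Q := fun h => hne (f.isClosedEmbedding.injective h)
  obtain ⟨i, hi⟩ := exists_mem_D (f Q)
  by_cases hPi : f P ∈ D n k i
  · obtain ⟨c, hc, hc'⟩ := exists_separating (isClosed_image f hf hP) (isClosed_image f hf hQ) hPi hi hy
    exact ⟨c, (sumSec_mem_iff f hf i (show P ∈ f ⁻¹ᵁ D n k i from hPi) c).mpr hc,
      fun h => (sumSec_mem_iff f hf i (show Q ∈ f ⁻¹ᵁ D n k i from hi) c).mp h hc'⟩
  · obtain ⟨j, hj⟩ := exists_mem_D (f P)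
    have hj' : P ∈ f ⁻¹ᵁ D n k j := hj
    refine ⟨Pi.single i 1, (sumSec_mem_iff f hf j hj' _).mpr fun h => hPi ?_, fun h => ?_⟩
    · rw [lin_single] at h
      refine mem_D_of_isUnit f (le_refl (f ⁻¹ᵁ D n k j)) hj' ?_
      have hcm : chartMap f (le_refl (f ⁻¹ᵁ D n k j)) (ProjPoint.coord j i) = f.app (D n k j) (coFun n k j i) := by
        simp [chartMap, Scheme.Hom.app_eq_appLE]
      rw [hcm]
      refine (X.mem_basicOpen _ P hj').mp ?_
      rw [← Scheme.preimage_basicOpen]
      exact h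
    · have := (sumSec_mem_iff f hf i (show Q ∈ f ⁻¹ᵁ D n k i from hi) _).mp h
      rw [lin_single, coFun_self, Scheme.basicOpen_of_isUnit _ isUnit_one] at this
      exact this hi

/-- A closed immersion separates tangent vectors. -/
theorem tangents_of_isClosedImmersion (hf : f ≫ str n k = pX) [IsClosedImmersion f] (P : X)
    (hP : IsClosed ({P} : Set X)) :
    IsLocalRing.maximalIdeal (X.presheaf.stalk P) • (⊤ : Submodule (X.presheaf.stalk P) ↑((P1 f).presheaf.stalk P)) ≤
      Submodule.span (X.presheaf.stalk P)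
          {v | ∃ c : Fin (n + 1) → k, v = (P1 f).presheaf.germ ⊤ P trivial (sumSec f pX c) ∧
            v ∈ IsLocalRing.maximalIdeal (X.presheaf.stalk P) • (⊤ : Submodule (X.presheaf.stalk P) _)} ⊔
        IsLocalRing.maximalIdeal (X.presheaf.stalk P) ^ 2 • (⊤ : Submodule (X.presheaf.stalk P) _) := by
  haveI : IsProper (str n k) := InvPow.isProper_toSpec n k
  obtain ⟨i, hi⟩ := exists_mem_D (f P)
  have hi' : P ∈ f ⁻¹ᵁ D n k i := hi
  rw [tangent_iff f hf i hi']
  refine le_sup_of_le_left ?_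
  have hU := Proj.isAffineOpen_basicOpen (CohB1.polyGrading n k) (MvPolynomial.X i) (ProjPoint.X_mem i) one_pos
  letI : Algebra Γ(Pn, D n k i) ((Pn).presheaf.stalk (f P)) := ((Pn).presheaf.germ (D n k i) (f P) hi).hom.toAlgebra
  haveI : IsLocalization.AtPrime ((Pn).presheaf.stalk (f P)) (hU.primeIdealOf ⟨f P, hi⟩).asIdeal :=
    hU.isLocalization_stalk ⟨f P, hi⟩
  intro z hz
  obtain ⟨w, rfl⟩ := f.stalkMap_surjective P z
  have hw : w ∈ IsLocalRing.maximalIdeal ((Pn).presheaf.stalk (f P)) := fun h => hz (h.map (f.stalkMap P).hom)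
  rw [← IsLocalization.AtPrime.map_eq_maximalIdeal (hU.primeIdealOf ⟨f P, hi⟩).asIdeal] at hw
  have hle : Ideal.map (f.stalkMap P).hom (Ideal.map (algebraMap Γ(Pn, D n k i) ((Pn).presheaf.stalk (f P)))
      (hU.primeIdealOf ⟨f P, hi⟩).asIdeal) ≤
      Ideal.span {a | ∃ c : Fin (n + 1) → k, f P ∉ (Pn).basicOpen (lin i c) ∧
        a = X.presheaf.germ (f ⁻¹ᵁ D n k i) P hi' (f.app (D n k i) (lin i c))} := by
    rw [Ideal.map_map, Ideal.map_le_iff_le_comap]
    intro a ha
    have hna : f P ∉ (Pn).basicOpen a := fun h =>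
      (IsLocalization.AtPrime.isUnit_to_map_iff _ (hU.primeIdealOf ⟨f P, hi⟩).asIdeal a).mp
        (((Pn).mem_basicOpen _ (f P) hi).mp h) ha
    refine (Ideal.span_le.mpr ?_ : _ ≤ Ideal.comap ((f.stalkMap P).hom.comp _) _)
      (mem_span_of_notMem (isClosed_image f hf hP) hi hna)
    rintro _ ⟨c, rfl, hc⟩
    exact Ideal.subset_span ⟨c, hc, Scheme.Hom.germ_stalkMap_apply f (D n k i) P hi _⟩
  exact hle (Ideal.mem_map_of_mem _ hw)

end

end Groth.Agent.SepTangent
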