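import Groth.Agent.ProjUniv.Chart
import Mathlib.AlgebraicGeometry.AlgClosed.Basic

set_option autoImplicit false
set_option linter.style.haveILetI false

/-!
# Linear forms on the standard charts of projective space over an algebraically closed field
-/

namespace Groth.Agent.SepTangent

universe u

open CategoryTheory CategoryTheory.Limits AlgebraicGeometry Opposite TopologicalSpace
open Groth.Agent.InvBasic Groth.Agent.ProjUniv

theorem id_appLE {P : Scheme.{u}} (U : P.Opens) :
    (𝟙 P : P ⟶ P).appLE U U le_rfl = 𝟙 _ := by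
  simp only [Scheme.Hom.appLE, Scheme.Hom.id_app]
  exact (Category.id_comp _).trans (P.presheaf.map_id (op U))

variable {n : ℕ} {k : Type u} [Field k]

local notation "𝒬" => CohB1.polyGrading n k
local notation "Pn" => Proj (CohB1.polyGrading n k)

variable (n k) in
/-- The structure morphism of projective space, as a morphism from `Proj`. -/
noncomputable abbrev str : Proj (CohB1.polyGrading n k) ⟶ Spec (CommRingCat.of k) :=
  CohB1.ProjSpace.toSpec n k

theorem ringHom_ext_away {T : Type u} [CommRing T] {i : Fin (n + 1)}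
    {h₁ h₂ : HomogeneousLocalization.Away 𝒬 (MvPolynomial.X i) →+* T}
    (hb : h₁.comp (ProjPoint.chartBase i) = h₂.comp (ProjPoint.chartBase i))
    (hc : ∀ j, h₁ (ProjPoint.coord i j) = h₂ (ProjPoint.coord i j)) : h₁ = h₂ := by
  have hu : IsUnit (MvPolynomial.eval₂Hom (ProjPoint.chartBase (R := k) i) (ProjPoint.coord i)
      (MvPolynomial.X i)) := ProjPoint.isUnit_eval_X (by simp [ProjPoint.coord_self])
  have key : ∀ (h : HomogeneousLocalization.Away 𝒬 (MvPolynomial.X i) →+* T),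
      ∃ hu', h = ProjPoint.evalAway (h.comp (ProjPoint.chartBase i)) (fun j => h (ProjPoint.coord i j))
        (MvPolynomial.X i) hu' := fun h => by
    refine ⟨ProjPoint.isUnit_eval_X (by simp [ProjPoint.coord_self]), ?_⟩
    rw [← ProjPoint.comp_evalAway _ _ _ hu h, ProjPoint.evalAway_coord, RingHom.comp_id]
  obtain ⟨u₁, e₁⟩ := key h₁
  obtain ⟨u₂, e₂⟩ := key h₂
  rw [e₁, e₂]
  exact ProjPoint.evalAway_congr hb (funext hc)

/-- The constants on a chart. -/
noncomputable abbrev const (i : Fin (n + 1)) : k →+* Γ(Pn, D n k i) := sigma (str n k) (D n k i)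

theorem const_eq (i : Fin (n + 1)) :
    const (n := n) (k := k) i =
      (Proj.awayToSection 𝒬 (MvPolynomial.X i)).hom.comp (ProjPoint.chartBase i) := by
  have h := chartMap_chartBase (𝟙 Pn) (q := str n k) (Category.id_comp _) (i := i) (W := D n k i) le_rfl
  rw [const, ← h]
  ext c
  simp only [chartMap, RingHom.comp_apply]
  rw [id_appLE]
  rfl

theorem awayToSection_surjective (i : Fin (n + 1)) :
    Function.Surjective (Proj.awayToSection 𝒬 (MvPolynomial.X i)) := fun a => by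
  refine ⟨(Proj.basicOpenIsoAway 𝒬 (MvPolynomial.X i) (ProjPoint.X_mem i) one_pos).inv a, ?_⟩
  exact CategoryTheory.Iso.inv_hom_id_apply (Proj.basicOpenIsoAway 𝒬 (MvPolynomial.X i) (ProjPoint.X_mem i) one_pos) a

theorem ringHom_ext_sect {T : Type u} [CommRing T] {i : Fin (n + 1)} {h₁ h₂ : Γ(Pn, D n k i) →+* T}
    (hb : h₁.comp (const i) = h₂.comp (const i))
    (hc : ∀ j, h₁ (coFun n k i j) = h₂ (coFun n k i j)) : h₁ = h₂ := by
  have h := ringHom_ext_away (h₁ := h₁.comp (Proj.awayToSection 𝒬 (MvPolynomial.X i)).hom)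
    (h₂ := h₂.comp (Proj.awayToSection 𝒬 (MvPolynomial.X i)).hom)
    (by rw [RingHom.comp_assoc, RingHom.comp_assoc, ← const_eq]; exact hb) hc
  ext a
  obtain ⟨b, rfl⟩ := awayToSection_surjective i a
  exact RingHom.congr_fun h b

/-- The linear form `∑ c j • X j`, divided by `X i`. -/
noncomputable def lin (i : Fin (n + 1)) (c : Fin (n + 1) → k) : Γ(Pn, D n k i) :=
  ∑ j, const i (c j) * coFun n k i j

theorem coFun_self (i : Fin (n + 1)) : coFun n k i i = 1 := by
  rw [coFun, ProjPoint.coord_self, map_one]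

theorem lin_single (i j : Fin (n + 1)) : lin (k := k) i (Pi.single j 1) = coFun n k i j := by
  rw [lin, Finset.sum_eq_single j]
  · rw [Pi.single_eq_same, map_one, one_mul]
  · intro l _ hl
    rw [Pi.single_eq_of_ne hl, map_zero, zero_mul]
  · simp

theorem lin_sub (i : Fin (n + 1)) (j : Fin (n + 1)) (e : k) :
    lin (k := k) i (Pi.single j 1 - e • Pi.single i 1) = coFun n k i j - const i e := by
  have h : ∀ c c' : Fin (n + 1) → k, lin (k := k) i (c - c') = lin i c - lin i c' := fun c c' => by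
    simp only [lin, Pi.sub_apply, map_sub, sub_mul, Finset.sum_sub_distrib]
  have h' : ∀ c : Fin (n + 1) → k, lin (k := k) i (e • c) = const i e * lin i c := fun c => by
    simp only [lin, Pi.smul_apply, smul_eq_mul, map_mul, mul_assoc, Finset.mul_sum]
  rw [h, h', lin_single, lin_single, coFun_self, mul_one]

theorem eval_sigma {P : Scheme.{u}} {R : Type u} [CommRing R] (s : P ⟶ Spec (CommRingCat.of R))
    (p : Spec (CommRingCat.of R) ⟶ P) (hp : p ≫ s = 𝟙 _) (U : P.Opens) (he : ⊤ ≤ p ⁻¹ᵁ U) (c : R) :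
    (Scheme.ΓSpecIso (CommRingCat.of R)).hom (p.appLE U ⊤ he (sigma s U c)) = c := by
  have h1 : P.presheaf.map (homOfLE (le_top : U ≤ ⊤)).op ≫ p.appLE U ⊤ he = p.appLE ⊤ ⊤ le_top :=
    p.map_appLE _ _
  have h2 : ((Scheme.ΓSpecIso (CommRingCat.of R)).inv ≫ s.appTop) ≫ p.appLE ⊤ ⊤ le_top ≫
      (Scheme.ΓSpecIso (CommRingCat.of R)).hom = 𝟙 _ := by
    rw [show p.appLE ⊤ ⊤ le_top = p.appTop from (p.app_eq_appLE).symm, Category.assoc,
      ← Scheme.Hom.comp_appTop_assoc, hp]
    simp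
  rw [← h1] at h2
  exact ConcreteCategory.congr_hom h2 c

theorem eval_eq_zero_iff {P : Scheme.{u}} {k : Type u} [Field k] (p : Spec (CommRingCat.of k) ⟶ P)
    {y : P} (hpy : ∀ o, p o = y) (U : P.Opens) (he : ⊤ ≤ p ⁻¹ᵁ U) (a : Γ(P, U)) :
    (Scheme.ΓSpecIso (CommRingCat.of k)).hom (p.appLE U ⊤ he a) = 0 ↔ y ∉ P.basicOpen a := by
  let o : Spec (CommRingCat.of k) := IsLocalRing.closedPoint k
  have h2 : o ∈ (Spec (CommRingCat.of k)).basicOpen (p.appLE U ⊤ he a) ↔ y ∈ P.basicOpen a := by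
    rw [Scheme.basicOpen_appLE]
    constructor
    · rintro ⟨-, h⟩
      rw [← hpy o]; exact h
    · intro h
      exact ⟨trivial, show p o ∈ P.basicOpen a from (hpy o).symm ▸ h⟩
  rw [← h2]
  constructor
  · intro h0 ho
    have : p.appLE U ⊤ he a = 0 := by
      apply (Scheme.ΓSpecIso (CommRingCat.of k)).commRingCatIsoToRingEquiv.injective
      exact h0.trans (map_zero _).symm
    rw [this, Scheme.basicOpen_zero] at ho
    exact ho
  · intro ho
    by_contra hne
    have hu : IsUnit (p.appLE U ⊤ he a) :=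
      (isUnit_map_iff (Scheme.ΓSpecIso (CommRingCat.of k)).commRingCatIsoToRingEquiv _).mp
        (Ne.isUnit hne)
    rw [Scheme.basicOpen_of_isUnit _ hu] at ho
    exact ho trivial

variable [IsAlgClosed k]

/-- Evaluation at a closed point of a chart. -/
theorem exists_eval [LocallyOfFiniteType (str n k)] {i : Fin (n + 1)} {y : Pn} (hy : IsClosed ({y} : Set Pn))
    (hyi : y ∈ D n k i) :
    ∃ ε : Γ(Pn, D n k i) →+* k, (∀ c, ε (const i c) = c) ∧
      ∀ a, ε a = 0 ↔ y ∉ (Proj (CohB1.polyGrading n k)).basicOpen a := by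
  let p : Spec (CommRingCat.of k) ⟶ Pn := pointOfClosedPoint (str n k) y hy
  have hp : p ≫ str n k = 𝟙 _ := pointOfClosedPoint_comp (str n k) y hy
  have hpy : ∀ o, p o = y := pointOfClosedPoint_apply (str n k) y hy
  have he : ⊤ ≤ p ⁻¹ᵁ D n k i := fun o _ => show p o ∈ D n k i from (hpy o).symm ▸ hyi
  exact ⟨(p.appLE (D n k i) ⊤ he ≫ (Scheme.ΓSpecIso (CommRingCat.of k)).hom).hom,
    eval_sigma (str n k) p hp _ he, eval_eq_zero_iff p hpy _ he⟩

/-- The linear forms vanishing at a closed point generate the functions vanishing there. -/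
theorem mem_span_of_notMem [LocallyOfFiniteType (str n k)] {i : Fin (n + 1)} {y : Pn}
    (hy : IsClosed ({y} : Set Pn)) (hyi : y ∈ D n k i) {a : Γ(Pn, D n k i)} (ha : y ∉ (Pn).basicOpen a) :
    a ∈ Ideal.span {b | ∃ c, b = lin i c ∧ y ∉ (Pn).basicOpen b} := by
  obtain ⟨ε, hεc, hε⟩ := exists_eval hy hyi
  set I := Ideal.span {b | ∃ c, b = lin i c ∧ y ∉ (Pn).basicOpen b}
  have key : (Ideal.Quotient.mk I) = ((Ideal.Quotient.mk I).comp (const i)).comp ε := by
    refine ringHom_ext_sect ?_ fun j => ?_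
    · ext c
      simp [hεc]
    · refine (Ideal.Quotient.mk_eq_mk_iff_sub_mem _ _).mpr ?_
      refine Ideal.subset_span ⟨Pi.single j 1 - ε (coFun n k i j) • Pi.single i 1, ?_, ?_⟩
      · exact (lin_sub i j _).symm
      · rw [← hε, map_sub, hεc, sub_self]
  rw [← Ideal.Quotient.eq_zero_iff_mem, key]
  simp [(hε a).mpr ha]

/-- Distinct closed points of a chart are separated by a linear form. -/
theorem exists_separating [LocallyOfFiniteType (str n k)] {i : Fin (n + 1)} {y y' : Pn}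
    (hy : IsClosed ({y} : Set Pn)) (hy' : IsClosed ({y'} : Set Pn)) (hyi : y ∈ D n k i) (hy'i : y' ∈ D n k i)
    (hne : y ≠ y') : ∃ c, y ∉ (Pn).basicOpen (lin i c) ∧ y' ∈ (Pn).basicOpen (lin i c) := by
  obtain ⟨ε, hεc, hε⟩ := exists_eval hy hyi
  obtain ⟨ε', hεc', hε'⟩ := exists_eval hy' hy'i
  by_contra hcon
  push Not at hcon
  have hεε : ε = ε' := by
    refine ringHom_ext_sect (RingHom.ext fun c => (hεc c).trans (hεc' c).symm) fun j => ?_
    have h := hcon (Pi.single j 1 - ε (coFun n k i j) • Pi.single i 1) (by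
      rw [lin_sub, ← hε, map_sub, hεc, sub_self])
    rw [lin_sub, ← hε', map_sub, hεc', sub_eq_zero] at h
    exact h.symm
  apply hne
  have hU := Proj.isAffineOpen_basicOpen 𝒬 (MvPolynomial.X i) (ProjPoint.X_mem i) one_pos
  have hmem : ∀ (z : Pn) (hz : z ∈ D n k i) (a : Γ(Pn, D n k i)),
      a ∈ (hU.primeIdealOf ⟨z, hz⟩).asIdeal ↔ z ∉ (Pn).basicOpen a := fun z hz a => by
    conv_rhs => rw [show z = hU.fromSpec (hU.primeIdealOf ⟨z, hz⟩) from (hU.fromSpec_primeIdealOf ⟨z, hz⟩).symm]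
    change _ ↔ hU.primeIdealOf ⟨z, hz⟩ ∉ hU.fromSpec ⁻¹ᵁ (Pn).basicOpen a
    rw [hU.fromSpec_preimage_basicOpen]
    exact not_not.symm
  have hp : hU.primeIdealOf ⟨y, hyi⟩ = hU.primeIdealOf ⟨y', hy'i⟩ := by
    apply PrimeSpectrum.ext
    ext a
    rw [hmem, hmem, ← hε, ← hε', hεε]
  have := congrArg hU.fromSpec hp
  rwa [hU.fromSpec_primeIdealOf, hU.fromSpec_primeIdealOf] at this

end Groth.Agent.SepTangent
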